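import Mathlib.GroupTheory.Index
import Mathlib.Tactic.LinearCombination
import Mathlib.LinearAlgebra.Matrix.Rank
import Mathlib.LinearAlgebra.Matrix.ToLin
import Mathlib.LinearAlgebra.Isomorphisms
import Mathlib.Algebra.GCDMonoid.Finset
import Mathlib.RingTheory.PrincipalIdealDomain
import Mathlib.LinearAlgebra.Dimension.RankNullity
import Mathlib.LinearAlgebra.Dimension.Localization
import Mathlib.LinearAlgebra.FreeModule.PID

/-!
# Indices of diagonal lattices
-/

open Finset

namespace Groth.L05.CompLat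

variable {n : ℕ}

/-- The sum map `ℤⁿ → ℤ`. -/
def sumHom (n : ℕ) : (Fin n → ℤ) →+ ℤ where
  toFun x := ∑ i, x i
  map_zero' := by simp
  map_add' x y := by simp [Finset.sum_add_distrib]

/-- The diagonal map `ℤⁿ → ℤⁿ`. -/
def diagHom (δ : Fin n → ℤ) : (Fin n → ℤ) →+ (Fin n → ℤ) where
  toFun x := fun i => δ i * x i
  map_zero' := funext fun i => mul_zero _
  map_add' x y := funext fun i => mul_add _ _ _

theorem diagHom_apply (δ : Fin n → ℤ) (x : Fin n → ℤ) (i : Fin n) : diagHom δ x i = δ i * x i := rfl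

theorem diagHom_injective {δ : Fin n → ℤ} (hδ : ∀ i, δ i ≠ 0) : Function.Injective (diagHom δ) :=
  fun _ _ h => funext fun i => mul_left_cancel₀ (hδ i) (congrFun h i)

theorem diagHom_range (δ : Fin n → ℤ) :
    (diagHom δ).range = AddSubgroup.pi Set.univ fun i => AddSubgroup.zmultiples (δ i) := by
  ext x
  simp only [AddMonoidHom.mem_range, AddSubgroup.mem_pi, Set.mem_univ, true_implies,
    AddSubgroup.mem_zmultiples_iff, smul_eq_mul]
  refine ⟨?_, fun h => ?_⟩
  · rintro ⟨y, rfl⟩ i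
    exact ⟨y i, by rw [diagHom_apply, mul_comm]⟩
  · choose y hy using h
    exact ⟨y, funext fun i => by rw [diagHom_apply, mul_comm, hy]⟩

theorem index_diagHom_range (δ : Fin n → ℤ) : (diagHom δ).range.index = ∏ i, (δ i).natAbs := by
  rw [diagHom_range, AddSubgroup.index_pi]
  simp [Int.index_zmultiples]

/-- `[ker Σ : δℤⁿ ∩ ker Σ] * gcd δ = ∏ |δ_i|`. -/
theorem relIndex_diagHom_range_ker (hn : 0 < n) (δ : Fin n → ℤ) :
    (diagHom δ).range.relIndex (sumHom n).ker * (univ.gcd δ).natAbs = ∏ i, (δ i).natAbs := by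
  rw [← index_diagHom_range δ,
    ← AddSubgroup.relIndex_sup_left (H := (sumHom n).ker) (K := (diagHom δ).range),
    ← AddSubgroup.relIndex_mul_index (le_sup_left : (diagHom δ).range ≤ (diagHom δ).range ⊔ (sumHom n).ker)]
  congr 1
  have hsurj : Function.Surjective (sumHom n) := fun z =>
    ⟨Pi.single ⟨0, hn⟩ z, by simp [sumHom]⟩
  have : (diagHom δ).range ⊔ (sumHom n).ker =
      (AddSubgroup.zmultiples (univ.gcd δ)).comap (sumHom n) := by
    rw [← AddSubgroup.comap_map_eq]
    congr 1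
    ext z
    simp only [AddSubgroup.mem_map, AddMonoidHom.mem_range, AddSubgroup.mem_zmultiples_iff,
      smul_eq_mul, exists_exists_eq_and]
    refine ⟨?_, fun ⟨k, hk⟩ => ?_⟩
    · rintro ⟨y, rfl⟩
      obtain ⟨k, hk⟩ : univ.gcd δ ∣ ∑ i, δ i * y i :=
        dvd_sum fun i _ => (Finset.gcd_dvd (mem_univ i)).mul_right _
      exact ⟨k, by rw [mul_comm, ← hk]; rfl⟩
    · obtain ⟨c, hc⟩ := Finset.gcd_eq_sum_mul univ δ
      refine ⟨fun i => c i * k, ?_⟩
      rw [← hk, hc, Finset.mul_sum]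
      show ∑ i, δ i * (c i * k) = _
      exact Finset.sum_congr rfl fun i _ => by ring
  rw [this, AddSubgroup.index_comap_of_surjective _ hsurj, Int.index_zmultiples]

/-- The first counting formula. -/
theorem card_ker_sumDiag (hn : 0 < n) {δ : Fin n → ℤ} (hδ : ∀ i, δ i ≠ 0)
    (T : AddSubgroup (Fin n → ℤ)) (hT : T ≤ ((sumHom n).comp (diagHom δ)).ker) :
    T.relIndex ((sumHom n).comp (diagHom δ)).ker * ∏ i, (δ i).natAbs =
      (univ.gcd δ).natAbs * (T.map (diagHom δ)).relIndex (sumHom n).ker := by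
  have h1 : ((sumHom n).comp (diagHom δ)).ker.map (diagHom δ) =
      (diagHom δ).range ⊓ (sumHom n).ker := by
    rw [← AddMonoidHom.comap_ker, AddSubgroup.map_comap_eq]
  have hle : T.map (diagHom δ) ≤ (diagHom δ).range ⊓ (sumHom n).ker :=
    h1 ▸ AddSubgroup.map_mono hT
  rw [← AddSubgroup.relIndex_map_map_of_injective T _ (diagHom_injective hδ), h1,
    ← AddSubgroup.relIndex_mul_relIndex _ _ _ hle inf_le_right, AddSubgroup.inf_relIndex_right,
    ← relIndex_diagHom_range_ker hn δ]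
  ring

/-- Over `ℤ`, a matrix of corank one killing a vector without zero entries has kernel spanned by
the primitive vector. -/
theorem exists_ker_eq_zmultiples (hn : 0 < n) {δ : Fin n → ℤ} (hδ : ∀ i, δ i ≠ 0)
    (A : Matrix (Fin n) (Fin n) ℤ) (hA : A.rank = n - 1) (hAδ : A.mulVecLin δ = 0) :
    ∃ w : Fin n → ℤ, (∀ i, δ i = univ.gcd δ * w i) ∧
      A.mulVecLin.toAddMonoidHom.ker = AddSubgroup.zmultiples w := by
  have hg : univ.gcd δ ≠ 0 := fun h => hδ ⟨0, hn⟩ (Finset.gcd_eq_zero_iff.mp h _ (mem_univ _))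
  obtain ⟨w, hw, hw1⟩ := Finset.extract_gcd δ (univ_nonempty_iff.mpr ⟨(⟨0, hn⟩ : Fin n)⟩)
  refine ⟨w, fun i => hw i (mem_univ i), ?_⟩
  have hAw : A.mulVecLin w = 0 := by
    have : univ.gcd δ • A.mulVecLin w = 0 := by
      rw [← map_smul, show univ.gcd δ • w = δ from funext fun i => (hw i (mem_univ i)).symm, hAδ]
    exact (smul_eq_zero.mp this).resolve_left hg
  have hker : Module.finrank ℤ (LinearMap.ker A.mulVecLin) = 1 := by
    have h := Submodule.finrank_quotient_add_finrank (LinearMap.ker A.mulVecLin)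
    rw [A.mulVecLin.quotKerEquivRange.finrank_eq, Module.finrank_pi, Fintype.card_fin] at h
    rw [Matrix.rank] at hA
    omega
  refine le_antisymm (fun v hv => ?_) (AddSubgroup.zmultiples_le_of_mem hAw)
  obtain ⟨a, b, hab, ha⟩ : ∃ a b : ℤ, a • v + b • w = 0 ∧ a ≠ 0 := by
    let v' : LinearMap.ker A.mulVecLin := ⟨v, hv⟩
    let w' : LinearMap.ker A.mulVecLin := ⟨w, hAw⟩
    have hli : ¬ LinearIndependent ℤ ![v', w'] := fun hli => by
      have := hli.fintype_card_le_finrank
      simp [hker] at this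
    rw [LinearIndependent.pair_iff] at hli
    push Not at hli
    obtain ⟨a, b, hab, hne⟩ := hli
    refine ⟨a, b, congrArg Subtype.val hab, fun ha => hne ha ?_⟩
    subst ha
    have : b • w = 0 := by simpa [v', w'] using congrArg Subtype.val hab
    refine (smul_eq_zero.mp this).resolve_right fun hw0 => hδ ⟨0, hn⟩ ?_
    rw [hw _ (mem_univ _), hw0, Pi.zero_apply, mul_zero]
  obtain ⟨c, hc⟩ := Finset.gcd_eq_sum_mul univ w
  rw [hw1] at hc
  refine AddSubgroup.mem_zmultiples_iff.mpr ⟨∑ i, c i * v i, ?_⟩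
  have hb : a * (∑ i, c i * v i) = -b := by
    rw [Finset.mul_sum, ← mul_one (-b), hc, Finset.mul_sum]
    refine Finset.sum_congr rfl fun i _ => ?_
    have := congrFun hab i
    simp only [Pi.add_apply, Pi.smul_apply, smul_eq_mul, Pi.zero_apply] at this
    linear_combination c i * this
  funext i
  have := congrFun hab i
  simp only [Pi.add_apply, Pi.smul_apply, smul_eq_mul, Pi.zero_apply] at this
  rw [Pi.smul_apply, smul_eq_mul]
  apply mul_left_cancel₀ ha
  linear_combination w i * hb - this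

/-- The twisting factor. -/
theorem relIndex_map_diagHom_range (hn : 0 < n) {δ δ' : Fin n → ℤ} (hδ : ∀ i, δ i ≠ 0)
    (hδ' : ∀ i, δ' i ≠ 0) (A : Matrix (Fin n) (Fin n) ℤ) (hA : A.rank = n - 1)
    (hAδ' : A.mulVecLin δ' = 0) :
    ((diagHom δ').range.map ((diagHom δ).comp A.mulVecLin.toAddMonoidHom)).relIndex
        ((A.mulVecLin.toAddMonoidHom.range).map (diagHom δ)) * (univ.gcd δ').natAbs =
      ∏ i, (δ' i).natAbs := by
  obtain ⟨w, hw, hker⟩ := exists_ker_eq_zmultiples hn hδ' A hA hAδ'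
  have hg : univ.gcd δ' ≠ 0 := fun h => hδ' ⟨0, hn⟩ (by rw [hw, h, zero_mul])
  rw [← AddSubgroup.map_map, AddSubgroup.relIndex_map_map_of_injective _ _ (diagHom_injective hδ),
    AddMonoidHom.range_eq_map A.mulVecLin.toAddMonoidHom, AddSubgroup.relIndex_map_map, top_sup_eq, AddSubgroup.relIndex_top_right,
    ← index_diagHom_range δ', hker,
    ← AddSubgroup.relIndex_mul_index (le_sup_left :
      (diagHom δ').range ≤ (diagHom δ').range ⊔ AddSubgroup.zmultiples w), mul_comm]
  congr 1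
  rw [AddSubgroup.relIndex_sup_left, show AddSubgroup.zmultiples w = (zmultiplesHom (Fin n → ℤ) w).range from rfl,
    ← AddSubgroup.index_comap]
  have : (diagHom δ').range.comap (zmultiplesHom (Fin n → ℤ) w) = AddSubgroup.zmultiples (univ.gcd δ') := by
    ext m
    simp only [AddSubgroup.mem_comap, zmultiplesHom_apply, diagHom_range, AddSubgroup.mem_pi,
      Set.mem_univ, true_implies, AddSubgroup.mem_zmultiples_iff, smul_eq_mul, Pi.smul_apply]
    refine ⟨fun h => ?_, fun ⟨k, hk⟩ i => ⟨k, by rw [hw i, ← hk]; ring⟩⟩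
    obtain ⟨k, hk⟩ := h ⟨0, hn⟩
    refine ⟨k, ?_⟩
    have hw0 : w ⟨0, hn⟩ ≠ 0 := fun h0 => hδ' ⟨0, hn⟩ (by rw [hw, h0, mul_zero])
    apply mul_right_cancel₀ hw0
    rw [mul_assoc, ← hw]
    exact hk
  rw [this, Int.index_zmultiples]

end Groth.L05.CompLat
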